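import Mathlib
import Cfsg.Agent.Lib.Clifford.LinearExtension
import Cfsg.Agent.Lib.Clifford.CharExtension
import Cfsg.Agent.Lib.Chars.Ops

/-!
# The canonical extension over a p-quotient, and generalised orthogonality over a subgroup
-/

set_option autoImplicit false

namespace Cfsg.Agent.Lib.InvariantCore

open Cfsg

universe u

/-- Generalised orthogonality for a character whose restriction to `K` is irreducible. -/
theorem sum_restrict_mul {L : Type u} [Group L] [Finite L] (η : IrrCharacter L) (K : Subgroup L)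
    [Fintype K] (hirr : IsIrrCharacter K (fun k : K => (η : L → ℂ) k)) (a b : L) :
    ∑ k : K, (η : L → ℂ) (a * k) * (η : L → ℂ) ((k : L)⁻¹ * b) =
      (Nat.card K : ℂ) / (η : L → ℂ) 1 * (η : L → ℂ) (a * b) := by
  classical
  obtain ⟨d, ρ, hρ, hc⟩ := η.2
  obtain ⟨d', σ', hσ', hσc⟩ := hirr
  let σ : Representation ℂ K (Fin d → ℂ) := ρ.comp K.subtype
  haveI := hσ'
  obtain ⟨e⟩ := Clifford.equiv_of_char_eq σ' σ (by rw [hσc]; funext k; rw [← hc]; rfl)
  haveI : σ.IsIrreducible := Chars.isIrreducible_of_equiv e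
  let R : L → Matrix (Fin d) (Fin d) ℂ := fun g => LinearMap.toMatrix' (ρ g)
  have hR : ∀ g h, R (g * h) = R g * R h := fun g h => by
    simp only [R, map_mul]; exact LinearMap.toMatrix'_mul _ _
  have htr : ∀ g, (η : L → ℂ) g = Matrix.trace (R g) := fun g => by
    rw [← hc]
    show LinearMap.trace ℂ _ (ρ g) = _
    rw [LinearMap.trace_eq_matrix_trace ℂ (Pi.basisFun ℂ (Fin d))]
    rw [LinearMap.toMatrix_eq_toMatrix']
  have hd : (η : L → ℂ) 1 = (d : ℂ) := by
    rw [← hc, ρ.char_one, Module.finrank_fin_fun]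
  have hd0 : (d : ℂ) ≠ 0 := hd ▸ Chars.irr_apply_one_ne_zero η
  have key : ∀ i j k l : Fin d, ∑ n : K, R n k i * R ((n : L)⁻¹) j l =
      (Nat.card K : ℂ) / d * ((if i = j then 1 else 0) * if k = l then 1 else 0) := by
    intro i j k l
    let X : Module.End ℂ (Fin d → ℂ) := Matrix.toLin' (Matrix.single i j (1 : ℂ))
    let T : Module.End ℂ (Fin d → ℂ) := ∑ n : K, ρ (n : L) * X * ρ ((n : L)⁻¹)
    obtain ⟨c, hcT⟩ := Clifford.schur_scalar σ T (fun m => by
      show T * ρ (m : L) = ρ (m : L) * T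
      simp only [T, Finset.sum_mul, Finset.mul_sum]
      refine Fintype.sum_equiv (Equiv.mulLeft m⁻¹) _ _ fun n => ?_
      simp only [Equiv.coe_mulLeft, Subgroup.coe_mul, Subgroup.coe_inv, mul_inv_rev, inv_inv]
      rw [map_mul ρ (m : L)⁻¹ (n : L), map_mul ρ (n : L)⁻¹ (m : L), ← mul_assoc (ρ (m : L)),
        ← mul_assoc (ρ (m : L)), ← mul_assoc (ρ (m : L)), ← map_mul, mul_inv_cancel, map_one,
        one_mul]
      simp only [mul_assoc])
    have hmat := congrArg LinearMap.toMatrix' hcT
    simp only [T, map_sum, map_smul, LinearMap.toMatrix'_one, LinearMap.toMatrix'_mul, X,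
      LinearMap.toMatrix'_toLin'] at hmat
    have hent : ∀ k l, ∑ n : K, R n k i * R ((n : L)⁻¹) j l = c * (if k = l then 1 else 0) := by
      intro k l
      have h := congrFun (congrFun hmat k) l
      simp only [Matrix.sum_apply, Matrix.smul_apply, Matrix.one_apply, smul_eq_mul] at h
      rw [← h]
      refine Finset.sum_congr rfl fun n _ => ?_
      rw [Matrix.mul_apply, Finset.sum_eq_single j]
      · rw [Matrix.mul_single_apply_same, mul_one]
      · intro q _ hq
        rw [Matrix.mul_single_apply_of_ne _ _ _ _ _ hq, zero_mul]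
      · simp
    have hcv : c * d = (Nat.card K : ℂ) * if i = j then 1 else 0 := by
      have h : ∑ q : Fin d, ∑ n : K, R n q i * R ((n : L)⁻¹) j q = ∑ q : Fin d, c := by
        exact Finset.sum_congr rfl fun q _ => by rw [hent q q, if_pos rfl, mul_one]
      rw [Finset.sum_comm, Finset.sum_const, Finset.card_univ, Fintype.card_fin, nsmul_eq_mul] at h
      rw [mul_comm, ← h, Nat.card_eq_fintype_card, ← Finset.card_univ, ← nsmul_eq_mul,
        ← Finset.sum_const]
      refine Finset.sum_congr rfl fun n _ => ?_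
      have h1 : (R ((n : L)⁻¹) * R n) j i = if i = j then (1 : ℂ) else 0 := by
        rw [← hR, inv_mul_cancel]
        simp only [R, map_one, LinearMap.toMatrix'_one, Matrix.one_apply]
        exact if_congr eq_comm rfl rfl
      rw [← h1, Matrix.mul_apply]
      exact Finset.sum_congr rfl fun q _ => mul_comm _ _
    rw [hent k l, ← mul_assoc]
    congr 1
    rw [eq_comm, div_mul_eq_mul_div, div_eq_iff hd0]
    exact hcv.symm
  calc ∑ n : K, (η : L → ℂ) (a * n) * (η : L → ℂ) ((n : L)⁻¹ * b)
      = ∑ n : K, ∑ i, ∑ k, ∑ j, ∑ l, R a i k * R n k i * (R ((n : L)⁻¹) j l * R b l j) := by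
        refine Finset.sum_congr rfl fun n _ => ?_
        rw [htr, htr, hR, hR]
        simp only [Matrix.trace, Matrix.diag, Matrix.mul_apply, Finset.sum_mul]
        exact Finset.sum_congr rfl fun i _ => Finset.sum_congr rfl fun k _ => by
          simp only [Finset.mul_sum]
    _ = ∑ i, ∑ k, ∑ j, ∑ l, R a i k * R b l j * ((Nat.card K : ℂ) / d *
          ((if i = j then 1 else 0) * if k = l then 1 else 0)) := by
        rw [Finset.sum_comm]
        refine Finset.sum_congr rfl fun i _ => ?_
        rw [Finset.sum_comm]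
        refine Finset.sum_congr rfl fun k _ => ?_
        rw [Finset.sum_comm]
        refine Finset.sum_congr rfl fun j _ => ?_
        rw [Finset.sum_comm]
        refine Finset.sum_congr rfl fun l _ => ?_
        rw [← key i j k l, Finset.mul_sum]
        exact Finset.sum_congr rfl fun n _ => by ring
    _ = _ := by
        rw [htr (a * b), hR, hd]
        simp only [mul_ite, mul_one, mul_zero, Finset.sum_ite_eq, Finset.mem_univ, if_true,
          Finset.sum_const_zero, Matrix.trace, Matrix.diag, Matrix.mul_apply, Finset.mul_sum]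
        refine Finset.sum_congr rfl fun i _ => Finset.sum_congr rfl fun k _ => ?_
        ring

/-- Over a p-quotient an invariant character of a normal p'-subgroup has a canonical extension:
it is fixed by every element normalising the overgroup. -/
theorem exists_canonical_extension {G : Type u} [Group G] [Finite G] {p : ℕ} [hp : Fact p.Prime]
    (N S : Subgroup G) [hN : N.Normal] (hNS : N ≤ S) (hNp : ¬ p ∣ Nat.card N)
    (hidx : ∃ a, N.relIndex S = p ^ a) (θ : IrrCharacter N)
    (hinv : ∀ (g : G) (n : N),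
      (θ : N → ℂ) ⟨g * n * g⁻¹, hN.conj_mem n n.2 g⟩ = (θ : N → ℂ) n) :
    ∃ η : IrrCharacter S, (∀ n : N, (η : S → ℂ) (Subgroup.inclusion hNS n) = (θ : N → ℂ) n) ∧
      ∀ (g : G) (hg : ∀ s ∈ S, g * s * g⁻¹ ∈ S) (s : S),
        (η : S → ℂ) ⟨g * s * g⁻¹, hg s s.2⟩ = (η : S → ℂ) s := by
  classical
  let K : Subgroup S := N.subgroupOf S
  haveI hKn : K.Normal := Subgroup.normal_subgroupOf
  let e : K ≃* N := Subgroup.subgroupOfEquivOfLe hNS
  let θ' : K → ℂ := fun k => (θ : N → ℂ) (e k)
  have hθ' : IsIrrCharacter K θ' := Chars.isIrrCharacter_comp_mulEquiv e θ.2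
  have hinvG : ∀ (g : G) (k k' : K), ((k' : S) : G) = g * ((k : S) : G) * g⁻¹ → θ' k' = θ' k :=
    fun g k k' h => (congrArg (θ : N → ℂ) (Subtype.ext h)).trans (hinv g (e k))
  have hinv' : ∀ (s : S) (n : K), θ' ⟨s * n * s⁻¹, hKn.conj_mem (n : S) n.2 s⟩ = θ' n :=
    fun s n => hinvG (s : G) n _ rfl
  obtain ⟨d, hd0, hd, hddvd⟩ := Chars.irr_degree_dvd_card θ
  have hθ1 : θ' 1 = d := by simp only [θ', map_one, hd]
  obtain ⟨δ, hδ⟩ := Clifford.exists_detHom hθ'
  -- determinants follow automorphisms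
  have hdetcomp : ∀ {X : Type u} [Group X] [Finite X] (c : X ≃* X) (φ : X → ℂ),
      IsIrrCharacter X φ → ∀ x, detChar (fun y => φ (c y)) x = detChar φ (c x) := by
    intro X _ _ c φ hφ x
    obtain ⟨k, ρ, hρ, rfl⟩ := hφ
    let ρ' : Representation ℂ X (Fin k → ℂ) := ρ.comp c.toMonoidHom
    have hirr : IsIrrCharacter X (fun y => ρ.character (c y)) :=
      Chars.isIrrCharacter_comp_mulEquiv c ⟨k, ρ, hρ, rfl⟩
    obtain ⟨k', σ, hσ, hσc⟩ := hirr
    haveI := hσ
    obtain ⟨ee⟩ := Clifford.equiv_of_char_eq σ ρ' (hσc.trans rfl)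
    haveI : ρ'.IsIrreducible := Chars.isIrreducible_of_equiv ee
    rw [show (fun y => ρ.character (c y)) = ρ'.character from rfl,
      Clifford.detChar_character ρ' ⟨k, ρ', rfl⟩, Clifford.detChar_character ρ ⟨k, ρ, rfl⟩]
    rfl
  have hδinv : ∀ (s : S) (n : K), δ ⟨s * n * s⁻¹, hKn.conj_mem (n : S) n.2 s⟩ = δ n := by
    intro s n
    let c : K ≃* K := MulAut.conjNormal s
    have hc : (fun y => θ' (c y)) = θ' := funext fun y =>
      hinvG (s : G) y _ (by simp [c])
    have h := hdetcomp c θ' hθ' n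
    rw [hc, hδ] at h
    refine Units.ext (Eq.trans ?_ h.symm)
    exact congrArg (fun y => (δ y : ℂ)) (Subtype.ext (by simp [c]))
  obtain ⟨a, ha⟩ := hidx
  have hKidx : K.index = p ^ a := ha
  have hcopd : Nat.Coprime K.index d := by
    rw [hKidx]
    exact Nat.Coprime.pow_left a (hp.out.coprime_iff_not_dvd.2 fun h => hNp (h.trans hddvd))
  have hcopδ : Nat.Coprime K.index (orderOf δ) := by
    rw [hKidx]
    exact Nat.Coprime.pow_left a (hp.out.coprime_iff_not_dvd.2 fun h => hNp (h.trans (by
      rw [← Nat.card_congr e.toEquiv]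
      exact orderOf_dvd_of_pow_eq_one (MonoidHom.ext fun k => by
        rw [MonoidHom.pow_apply, ← map_pow, pow_card_eq_one', map_one, MonoidHom.one_apply]))))
  obtain ⟨μ, hμ, hμo⟩ := Clifford.exists_linear_extension_coprime δ hδinv hcopδ
  obtain ⟨χ, hχ, hext, hdet⟩ := Clifford.exists_char_extension hθ' hinv' hθ1 hcopd μ
    (fun n => by rw [hμ, hδ])
  refine ⟨⟨χ, hχ⟩, fun n => ?_, fun g hg s => ?_⟩
  · show χ _ = _
    rw [show Subgroup.inclusion hNS n = ((e.symm n : K) : S) from rfl, hext]
    simp [θ']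
  let cf : S →* S :=
    { toFun := fun s => ⟨g * s * g⁻¹, hg s s.2⟩
      map_one' := Subtype.ext (by simp)
      map_mul' := fun x y => Subtype.ext (by simp [mul_assoc]) }
  have hinj : Function.Injective cf := fun x y h =>
    Subtype.ext (mul_left_cancel (mul_right_cancel (congrArg Subtype.val h)))
  let c : S ≃* S := MulEquiv.ofBijective cf (Finite.injective_iff_bijective.1 hinj)
  have hK : ∀ k : K, c (k : S) ∈ K := fun k => hN.conj_mem _ k.2 g
  have hres : ∀ k : K, χ (c (k : S)) = θ' k := fun k => by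
    have h := hext ⟨c (k : S), hK k⟩
    rw [h]
    exact hinvG g k _ rfl
  have hμc : ∀ k : K, μ (c (k : S)) = δ k := by
    intro k
    let cK0 : K →* K :=
      { toFun := fun k => ⟨c (k : S), hK k⟩
        map_one' := Subtype.ext (by simp)
        map_mul' := fun x y => Subtype.ext (by simp) }
    have hinjK : Function.Injective cK0 := fun x y h =>
      Subtype.ext (c.injective (congrArg Subtype.val h))
    let cK : K ≃* K := MulEquiv.ofBijective cK0 (Finite.injective_iff_bijective.1 hinjK)
    have hcK : (fun y => θ' (cK y)) = θ' := funext fun y => hinvG g y _ rfl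
    have h := hdetcomp cK θ' hθ' k
    rw [hcK, hδ] at h
    rw [hμ ⟨c (k : S), hK k⟩]
    exact Units.ext h.symm
  have hμeq : μ.comp c.toMonoidHom = μ := Clifford.linear_extension_unique (N := K) _ _
    (fun k => (hμc k).trans (hμ k).symm)
    (Nat.Coprime.coprime_dvd_right (by
      refine orderOf_dvd_of_pow_eq_one (MonoidHom.ext fun s => ?_)
      rw [MonoidHom.pow_apply, MonoidHom.comp_apply, ← MonoidHom.pow_apply, pow_orderOf_eq_one]
      rfl) (hμo ▸ hcopδ)) (hμo ▸ hcopδ)
  have heq : (fun s => χ (c s)) = χ := Clifford.char_extension_unique hθ' hθ1 hcopd hχ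
    (Chars.isIrrCharacter_comp_mulEquiv c hχ) hext hres (by
      funext s
      rw [hdetcomp c χ hχ s, hdet]
      exact congrArg Units.val (DFunLike.congr_fun hμeq s))
  exact congrFun heq s

end Cfsg.Agent.Lib.InvariantCore
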