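import Mathlib

/-!
# A fixed element for a p-group acting through units in characteristic p
-/

set_option autoImplicit false

namespace Cfsg.Agent.Lib.InvariantCore

/-- A multiplicative family indexed by a p-group fixes a nonzero left multiple of a nonzero
element fixed by the value at one. -/
theorem exists_fixed_multiple {A : Type*} [Ring A] {Q : Type*} [Group Q] [Finite Q] {p : ℕ}
    [Fact p.Prime] [CharP A p] (hQ : IsPGroup p Q) (b : Q → A)
    (hb : ∀ u v, b (u * v) = b u * b v) {w : A} (hw : w ≠ 0) (h1 : b 1 * w = w) :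
    ∃ r : A, r * w ≠ 0 ∧ ∀ u, b u * (r * w) = r * w := by
  classical
  cases nonempty_fintype Q
  let Φ : (Q → ZMod p) →+ A :=
    { toFun := fun n => (∑ u : Q, ZMod.castHom dvd_rfl A (n u) * b u) * w
      map_zero' := by simp
      map_add' := fun n m => by
        simp only [Pi.add_apply, map_add, add_mul, Finset.sum_add_distrib] }
  have hcomm : ∀ (c : ZMod p) (a : A), ZMod.castHom dvd_rfl A c * a = a * ZMod.castHom dvd_rfl A c := by
    intro c a
    obtain ⟨n, rfl⟩ := ZMod.natCast_zmod_surjective c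
    rw [map_natCast]
    exact Nat.cast_comm n a
  have hmul : ∀ (v : Q) (n : Q → ZMod p), b v * Φ n = Φ fun u => n (v⁻¹ * u) := by
    intro v n
    show b v * ((∑ u : Q, _) * w) = (∑ u : Q, _) * w
    rw [← mul_assoc, Finset.mul_sum]
    congr 1
    refine Fintype.sum_equiv (Equiv.mulLeft v) _ _ fun u => ?_
    simp only [Equiv.coe_mulLeft, inv_mul_cancel_left, hb]
    rw [← mul_assoc, ← mul_assoc, hcomm]
  let R := Φ.range
  have hone : ∀ a : R, b 1 * (a : A) = a := by
    rintro ⟨_, n, rfl⟩
    show b 1 * Φ n = Φ n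
    rw [hmul]
    simp
  letI act : MulAction Q R :=
    { smul := fun v a => ⟨b v * a.1, by
        obtain ⟨n, hn⟩ := a.2
        exact ⟨_, (hn ▸ hmul v n).symm⟩⟩
      one_smul := fun a => Subtype.ext (hone a)
      mul_smul := fun v u a => Subtype.ext (show b (v * u) * a.1 = b v * (b u * a.1) by
        rw [hb, mul_assoc]) }
  haveI : Finite R := Finite.of_surjective Φ.rangeRestrict Φ.rangeRestrict_surjective
  have hmem : w ∈ R := ⟨Pi.single 1 1, by
    show (∑ u : Q, _) * w = w
    rw [Finset.sum_eq_single (1 : Q) (fun u _ hu => by simp [Pi.single_eq_of_ne hu]) (by simp)]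
    simpa using h1⟩
  have hdvd : p ∣ Nat.card R := by
    have h1 : Nat.card R ∣ Nat.card (Q → ZMod p) :=
      AddSubgroup.card_dvd_of_surjective Φ.rangeRestrict Φ.rangeRestrict_surjective
    rw [Nat.card_fun, Nat.card_zmod] at h1
    obtain ⟨i, -, hi⟩ := (Nat.dvd_prime_pow (Fact.out : p.Prime)).1 h1
    rcases Nat.eq_zero_or_pos i with rfl | hi0
    · haveI : Subsingleton R := (Nat.card_eq_one_iff_unique.1 (by rw [hi, pow_zero])).1
      exact absurd (congrArg Subtype.val (Subsingleton.elim (⟨w, hmem⟩ : R) 0)) hw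
    · rw [hi]; exact dvd_pow_self _ hi0.ne'
  have h0 : (0 : R) ∈ MulAction.fixedPoints Q R := fun v =>
    Subtype.ext (show b v * (0 : A) = 0 by rw [mul_zero])
  obtain ⟨⟨a, n, rfl⟩, hfix, hne⟩ := hQ.exists_fixed_point_of_prime_dvd_card_of_fixed_point R hdvd h0
  exact ⟨∑ u : Q, ZMod.castHom dvd_rfl A (n u) * b u, fun h => hne (Subtype.ext h.symm),
    fun u => congrArg Subtype.val (hfix u)⟩

end Cfsg.Agent.Lib.InvariantCore
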