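import Mathlib
import Cfsg.Agent.Lib.Blocks.Brauer
import Cfsg.Agent.Lib.InvariantCore.Fixed

/-!
# Blocks over an invariant character of a normal p'-subgroup

If the character of the normal p'-subgroup `N` has an invariant extension to the normal subgroup
`L = N Q` (`Q` a p-group), its translates `beta` give a p-group of units in a corner of the group
algebra in characteristic p, commuting with `N`.  An element of a block fixed by all of them shows
that every class is either killed (no element centralises `Q`) or acts as an element of the group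
algebra of `N` (classes in `L`).
-/

set_option autoImplicit false

namespace Cfsg.Agent.Lib.InvariantCore

open Cfsg MonoidAlgebra Cfsg.Agent.Lib Cfsg.Agent.Lib.Blocks

universe u

/-- An invariant extension to `L` of an irreducible character of `N`, as a function on the group. -/
structure CoreExt {G : Type u} [Group G] [Fintype G] (N L : Subgroup G) [DecidablePred (· ∈ N)] where
  f : G → ℂ
  conj : ∀ g x, f (g * x * g⁻¹) = f x
  int : ∀ x, IsIntegral ℤ (f x)
  ne : f 1 ≠ 0
  conv : ∀ a ∈ L, ∀ b ∈ L, (∑ x : G, if x ∈ N then f (a * x) * f (x⁻¹ * b) else 0) =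
    (Nat.card N : ℂ) / f 1 * f (a * b)

variable {G : Type u} [Group G] [Fintype G] {p : ℕ} {M : Ideal AlgInt} [M.IsPrime]

theorem coeff_mul_sum {k : Type*} [CommRing k] (z w : MonoidAlgebra k G) (x : G) :
    (z * w).coeff x = ∑ y : G, z.coeff y * w.coeff (y⁻¹ * x) := by
  rw [coeff_mul_apply_left, Finsupp.sum_fintype _ _ (by simp)]

theorem eq_sum_single {k : Type*} [CommRing k] (z : MonoidAlgebra k G) :
    z = ∑ x : G, single x (z.coeff x) := by
  classical
  ext y
  simp [coeff_single, Finsupp.single_apply]

/-- What commutes with `N` commutes with what is supported on `N`. -/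
theorem commute_of_supported {k : Type*} [CommRing k] {N : Subgroup G} {z w : MonoidAlgebra k G}
    (hz : ∀ x, x ∉ N → z.coeff x = 0) (hw : ∀ n ∈ N, single n (1 : k) * w = w * single n 1) :
    z * w = w * z := by
  classical
  rw [eq_sum_single z, Finset.sum_mul, Finset.mul_sum]
  refine Finset.sum_congr rfl fun x _ => ?_
  by_cases hx : x ∈ N
  · rw [show single x (z.coeff x) = z.coeff x • single x (1 : k) by simp, smul_mul_assoc, hw x hx,
      mul_smul_comm]
  · simp [hz x hx]

variable {N L : Subgroup G} [hN : N.Normal] [DecidablePred (· ∈ N)]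

section Beta

variable (M) (hM : IsPModular p M) (hNp : ¬ p ∣ Nat.card N) (E : CoreExt N L)

theorem scale_mem (hM : IsPModular p M) (hNp : ¬ p ∣ Nat.card N) (E : CoreExt N L) (x : G) :
    (Nat.card N : ℂ)⁻¹ * E.f 1 * E.f x ∈ localRing M :=
  mul_mem (mul_mem (inv_natCast_mem_localRing hM hNp) (isIntegral_mem_localRing (E.int 1)))
    (isIntegral_mem_localRing (E.int x))

/-- The translate at `m`. -/
noncomputable def beta (m : G) : MonoidAlgebra (localRing M) G :=
  ofFun fun x => if m⁻¹ * x ∈ N then
    ⟨(Nat.card N : ℂ)⁻¹ * E.f 1 * E.f x⁻¹, scale_mem M hM hNp E _⟩ else 0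

theorem coe_coeff_beta (m x : G) : (((beta M hM hNp E m).coeff x : localRing M) : ℂ) =
    if m⁻¹ * x ∈ N then (Nat.card N : ℂ)⁻¹ * E.f 1 * E.f x⁻¹ else 0 := by
  rw [beta, coeff_ofFun]
  split_ifs <;> simp

theorem beta_coset (m : G) {n : G} (hn : n ∈ N) :
    beta M hM hNp E (m * n) = beta M hM hNp E m := by
  ext x
  rw [coe_coeff_beta, coe_coeff_beta]
  refine if_congr ?_ rfl rfl
  rw [mul_inv_rev, mul_assoc]
  exact N.mul_mem_cancel_left (inv_mem hn)

theorem single_mul_beta (g m : G) :
    single g 1 * beta M hM hNp E m = beta M hM hNp E (g * m * g⁻¹) * single g 1 := by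
  ext x
  simp only [coeff_single_mul_apply, coeff_mul_single_apply, one_mul, mul_one, coe_coeff_beta]
  have e1 : E.f (g⁻¹ * x)⁻¹ = E.f (x * g⁻¹)⁻¹ := by
    rw [← E.conj g (g⁻¹ * x)⁻¹]
    congr 1
    group
  refine if_congr ?_ (by rw [e1]) rfl
  have e2 : (g * m * g⁻¹)⁻¹ * (x * g⁻¹) = g * (m⁻¹ * (g⁻¹ * x)) * g⁻¹ := by group
  rw [e2]
  exact ⟨fun h => hN.conj_mem _ h g, fun h => by
    simpa [mul_assoc] using hN.conj_mem _ h g⁻¹⟩

theorem beta_mul (hNL : N ≤ L) {m m' : G} (hm : m ∈ L) (hm' : m' ∈ L) :
    beta M hM hNp E m * beta M hM hNp E m' = beta M hM hNp E (m * m') := by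
  ext x
  rw [coeff_mul_sum, AddSubmonoidClass.coe_finsetSum, coe_coeff_beta]
  simp only [Subring.coe_mul, coe_coeff_beta]
  by_cases hx : (m * m')⁻¹ * x ∈ N
  · rw [if_pos hx]
    have hxL : x ∈ L := by
      simpa [mul_assoc] using mul_mem (mul_mem hm hm') (hNL hx)
    set c : ℂ := (Nat.card N : ℂ)⁻¹ * E.f 1 with hc
    have h1 : ∑ y : G, ((if m⁻¹ * y ∈ N then c * E.f y⁻¹ else 0) *
        if m'⁻¹ * (y⁻¹ * x) ∈ N then c * E.f (y⁻¹ * x)⁻¹ else 0) =
        c * c * ∑ n : G, if n ∈ N then E.f ((x⁻¹ * m) * n) * E.f (n⁻¹ * m⁻¹) else 0 := by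
      rw [Finset.mul_sum]
      refine Fintype.sum_equiv (Equiv.mulLeft m⁻¹) _ _ fun y => ?_
      simp only [Equiv.coe_mulLeft]
      by_cases hy : m⁻¹ * y ∈ N
      · have hy' : m'⁻¹ * (y⁻¹ * x) ∈ N := by
          have e : m'⁻¹ * (y⁻¹ * x) =
              m'⁻¹ * (m⁻¹ * y)⁻¹ * m' * ((m * m')⁻¹ * x) := by group
          rw [e]
          exact mul_mem (by simpa using hN.conj_mem _ (inv_mem hy) m'⁻¹) hx
        simp only [hy, hy', ↓reduceIte]
        have e2 : x⁻¹ * m * (m⁻¹ * y) = (y⁻¹ * x)⁻¹ := by group
        have e3 : (m⁻¹ * y)⁻¹ * m⁻¹ = y⁻¹ := by group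
        rw [e2, e3]
        ring
      · simp only [hy, ↓reduceIte, zero_mul, mul_zero]
    rw [h1, E.conv _ (mul_mem (inv_mem hxL) hm) _ (inv_mem hm), mul_inv_cancel_right, hc]
    have := E.ne
    have : (Nat.card N : ℂ) ≠ 0 := Nat.cast_ne_zero.2 Nat.card_pos.ne'
    field_simp
  · rw [if_neg hx]
    refine Finset.sum_eq_zero fun y _ => ?_
    by_cases hy : m⁻¹ * y ∈ N
    · have hy' : ¬ m'⁻¹ * (y⁻¹ * x) ∈ N := fun h => hx (by
        have e : (m * m')⁻¹ * x = m'⁻¹ * (m⁻¹ * y) * m' * (m'⁻¹ * (y⁻¹ * x)) := by group
        rw [e]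
        exact mul_mem (by simpa using hN.conj_mem _ hy m'⁻¹) h)
      rw [if_neg hy', mul_zero]
    · rw [if_neg hy, zero_mul]

theorem beta_one_mem_center : beta M hM hNp E 1 ∈ RCenter M G := by
  rw [Subalgebra.mem_center_iff]
  intro b
  induction b using MonoidAlgebra.induction_linear with
  | zero => simp
  | add x y hx hy => rw [add_mul, mul_add, hx, hy]
  | single g c =>
    rw [show single g c = c • single g (1 : localRing M) by simp, smul_mul_assoc, mul_smul_comm,
      single_mul_beta, mul_one, mul_inv_cancel]

end Beta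

variable [Fact p.Prime]

/-- Two characters over the same invariant character of `N` lie in one block. -/
theorem sameBlock_of_coreExt (hM : IsPModular p M) (hNp : ¬ p ∣ Nat.card N) (hNL : N ≤ L)
    [hL : L.Normal] (E : CoreExt N L) (Q : Subgroup G) (hQ : IsPGroup p Q) (hQL : Q ≤ L)
    (hcov : ∀ l ∈ L, ∃ u ∈ Q, u⁻¹ * l ∈ N) (hcent : Subgroup.centralizer (Q : Set G) ≤ L)
    (χ χ' : IrrCharacter G)
    (hχ : ∀ n ∈ N, (χ : G → ℂ) n / (χ : G → ℂ) 1 = E.f n / E.f 1)
    (hχ' : ∀ n ∈ N, (χ' : G → ℂ) n / (χ' : G → ℂ) 1 = E.f n / E.f 1) :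
    SameBlock M (χ : G → ℂ) (χ' : G → ℂ) := by
  classical
  haveI := charP_residue hM
  intro g
  rw [← omegaBar_eq_iff_of_classSum]
  let β : G → MonoidAlgebra (localRing M) G := beta M hM hNp E
  let e : RCenter M G := ⟨β 1, beta_one_mem_center M hM hNp E⟩
  -- an element of the centre supported on `N` with the same action
  have key : ∃ z : RCenter M G,
      (∀ x, x ∉ N → ((z : MonoidAlgebra (localRing M) G).coeff x) = 0) ∧
      ∀ f : MonoidAlgebra (Residue M) G, (∀ l ∈ L, toF M G (β l) * f = f) →
        (toF M G ((classSumR M g : RCenter M G) : MonoidAlgebra (localRing M) G)) * f =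
          toF M G (z : MonoidAlgebra (localRing M) G) * f := by
    have hSF : ∀ x : G, toF M G (single x 1) = single x 1 := fun x => by
      ext y
      simp [coeff_single, Finsupp.single_apply, apply_ite (residue M)]
    have hclass : ((classSumR M g : RCenter M G) : MonoidAlgebra (localRing M) G) =
        ∑ x : G, if IsConj g x then single x 1 else 0 := by
      rw [eq_sum_single ((classSumR M g : RCenter M G) : MonoidAlgebra (localRing M) G)]
      refine Finset.sum_congr rfl fun x _ => ?_
      simp only [classSumR, coeff_classSum]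
      split_ifs <;> simp
    by_cases hgL : g ∈ L
    · let z : MonoidAlgebra (localRing M) G :=
        ∑ x : G, if IsConj g x then single x 1 * β x⁻¹ else 0
      have hconjL : ∀ x, IsConj g x → x ∈ L := fun x hx => by
        obtain ⟨c, rfl⟩ := isConj_iff.1 hx
        exact hL.conj_mem g hgL c
      have hzc : z ∈ RCenter M G := by
        rw [Subalgebra.mem_center_iff]
        intro b
        induction b using MonoidAlgebra.induction_linear with
        | zero => simp
        | add a c ha hc => rw [add_mul, mul_add, ha, hc]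
        | single h c =>
          rw [show single h c = c • single h (1 : localRing M) by simp, smul_mul_assoc,
            mul_smul_comm]
          congr 1
          simp only [z, Finset.mul_sum, Finset.sum_mul]
          refine Fintype.sum_equiv (MulAut.conj h).toEquiv _ _ fun x => ?_
          simp only [MulEquiv.toEquiv_eq_coe, EquivLike.coe_coe, MulAut.conj_apply]
          have hiff : IsConj g x ↔ IsConj g (h * x * h⁻¹) :=
            ⟨fun hx => hx.trans (isConj_iff.2 ⟨h, rfl⟩),
              fun hx => hx.trans (isConj_iff.2 ⟨h⁻¹, by group⟩)⟩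
          by_cases hx : IsConj g x
          · simp only [hx, hiff.1 hx, ↓reduceIte]
            rw [← mul_assoc, single_mul_single, one_mul,
              mul_assoc (single (h * x * h⁻¹) (1 : localRing M)),
              show (h * x * h⁻¹)⁻¹ = h * x⁻¹ * h⁻¹ by group]
            show _ = single (h * x * h⁻¹) 1 * (beta M hM hNp E (h * x⁻¹ * h⁻¹) * single h 1)
            rw [← single_mul_beta, ← mul_assoc, single_mul_single, one_mul,
              inv_mul_cancel_right]
          · simp only [hx, mt hiff.2 hx, ↓reduceIte, mul_zero, zero_mul]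
      refine ⟨⟨z, hzc⟩, fun y hy => ?_, fun f hf => ?_⟩
      · show z.coeff y = 0
        simp only [z, coeff_sum, Finsupp.coe_finsetSum, Finset.sum_apply]
        refine Finset.sum_eq_zero fun x _ => ?_
        split_ifs with hx
        · rw [coeff_single_mul_apply, one_mul]
          refine Subtype.ext ?_
          rw [coe_coeff_beta, inv_inv, mul_inv_cancel_left, if_neg hy]
          simp
        · simp
      · show _ = toF M G z * f
        rw [hclass]
        simp only [z, map_sum, Finset.sum_mul]
        refine Finset.sum_congr rfl fun x _ => ?_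
        split_ifs with hx
        · rw [map_mul, mul_assoc, hf _ (inv_mem (hconjL x hx))]
        · rfl
    · refine ⟨0, fun _ _ => rfl, fun f hf => ?_⟩
      rw [ZeroMemClass.coe_zero, map_zero, zero_mul]
      let S : G → MonoidAlgebra (Residue M) G := fun x => single x 1
      let bb : G → MonoidAlgebra (Residue M) G := fun m => toF M G (β m)
      have hS : ∀ x y, S x * S y = S (x * y) := fun x y => by
        simp only [S, single_mul_single, one_mul]
      have hSb : ∀ x m, S x * bb m = bb (x * m * x⁻¹) * S x := fun x m => by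
        simp only [S, bb, β, ← hSF, ← map_mul, single_mul_beta]
      have hfix : ∀ m ∈ L, ∀ y : MonoidAlgebra (Residue M) G, bb m * (y * f) = y * f := by
        intro m hm y
        induction y using MonoidAlgebra.induction_linear with
        | zero => simp
        | add a c ha hc => rw [add_mul, mul_add, ha, hc]
        | single x c =>
          rw [show single x c = c • S x by simp [S], smul_mul_assoc, mul_smul_comm, ← mul_assoc]
          congr 1
          have h := hSb x (x⁻¹ * m * x)
          rw [show x * (x⁻¹ * m * x) * x⁻¹ = m by group] at h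
          rw [← h, mul_assoc, hf _ (by simpa using hL.conj_mem m hm x⁻¹)]
      let b : G → MonoidAlgebra (Residue M) G := fun x => ∑ n : N, S (n * x * (n : G)⁻¹)
      have hbN : ∀ x, ∀ n ∈ N, single n (1 : Residue M) * b x = b x * single n 1 := by
        intro x n hn
        show S n * b x = b x * S n
        simp only [b, Finset.mul_sum, Finset.sum_mul, hS]
        refine Fintype.sum_equiv (Equiv.mulLeft (⟨n, hn⟩ : N)) _ _ fun m => ?_
        congr 1
        simp only [Equiv.coe_mulLeft, Subgroup.coe_mul]
        group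
      have hbu : ∀ x u, b (u * x * u⁻¹) = S u * b x * S u⁻¹ := by
        intro x u
        simp only [b, Finset.mul_sum, Finset.sum_mul, hS]
        refine Fintype.sum_equiv (MulAut.conjNormal u⁻¹).toEquiv _ _ fun m => ?_
        congr 1
        simp only [MulEquiv.toEquiv_eq_coe, EquivLike.coe_coe, MulAut.conjNormal_apply]
        group
      have hconst : ∀ (u : Q) (x : G), b ((u : G) * x * (u : G)⁻¹) * f = b x * f := by
        intro u x
        have huL : (u : G) ∈ L := hQL u.2
        have hα : (bb (u : G)⁻¹ * S (u : G)) * b x = b x * (bb (u : G)⁻¹ * S (u : G)) := by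
          refine commute_of_supported (N := N) (fun y hy => ?_) (hbN x)
          simp only [S, bb, ← hSF, ← map_mul, coeff_mapRingHom]
          rw [coeff_mul_single_apply, mul_one]
          refine (congrArg (residue M) (Subtype.ext ?_ : _ = (0 : localRing M))).trans (map_zero _)
          rw [coe_coeff_beta, inv_inv, if_neg, ZeroMemClass.coe_zero]
          intro h
          refine hy ?_
          have := hN.conj_mem _ h (u : G)⁻¹
          simpa [mul_assoc] using this
        have h1 : bb (u : G)⁻¹ * b ((u : G) * x * (u : G)⁻¹) = b x * bb (u : G)⁻¹ := by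
          rw [hbu, ← mul_assoc, ← mul_assoc, hα, mul_assoc, mul_assoc, hS, mul_inv_cancel,
            show S 1 = 1 from one_def.symm, mul_one]
        calc b ((u : G) * x * (u : G)⁻¹) * f
            = bb 1 * (b ((u : G) * x * (u : G)⁻¹) * f) := (hfix 1 (one_mem L) _).symm
          _ = bb (u : G) * ((bb (u : G)⁻¹ * b ((u : G) * x * (u : G)⁻¹)) * f) := by
              simp only [bb, β, ← mul_assoc, ← map_mul,
                beta_mul M hM hNp E hNL huL (inv_mem huL), mul_inv_cancel]
          _ = bb (u : G) * (b x * f) := by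
              rw [h1, mul_assoc (b x), hf _ (inv_mem huL)]
          _ = b x * f := hfix _ huL _
      have hsum : (Nat.card N : MonoidAlgebra (Residue M) G) * (toF M G ((classSumR M g : RCenter M G) :
          MonoidAlgebra (localRing M) G) * f) = ∑ x : G, if IsConj g x then b x * f else 0 := by
        rw [← mul_assoc]
        rw [show (∑ x : G, if IsConj g x then b x * f else 0) =
          (∑ x : G, if IsConj g x then b x else 0) * f by
            rw [Finset.sum_mul]; exact Finset.sum_congr rfl fun x _ => by split_ifs <;> simp]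
        congr 1
        rw [hclass, map_sum, Nat.card_eq_fintype_card, ← nsmul_eq_mul]
        have e1 : ∀ x : G, (if IsConj g x then b x else 0) =
            ∑ n : N, if IsConj g x then S (n * x * (n : G)⁻¹) else 0 := fun x => by
          split_ifs with h
          · rfl
          · simp
        simp only [e1]
        rw [Finset.sum_comm, ← Finset.card_univ, ← Finset.sum_const]
        refine Finset.sum_congr rfl fun n _ => ?_
        refine Fintype.sum_equiv (MulAut.conj (n : G)).toEquiv.symm _ _ fun x => ?_
        simp only [MulEquiv.toEquiv_eq_coe, MulEquiv.coe_toEquiv_symm, MulAut.conj_symm_apply]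
        have hiff : IsConj g x ↔ IsConj g ((n : G)⁻¹ * x * n) :=
          ⟨fun hx => hx.trans (isConj_iff.2 ⟨(n : G)⁻¹, by group⟩),
            fun hx => hx.trans (isConj_iff.2 ⟨(n : G), by group⟩)⟩
        rw [apply_ite (toF M G), hSF, map_zero]
        refine if_congr hiff ?_ rfl
        simp only [S]
        congr 1
        group
      have hzero : (∑ x : G, if IsConj g x then b x * f else 0) = 0 := by
        letI : MulAction Q G :=
          { smul := fun u x => (u : G) * x * (u : G)⁻¹
            one_smul := fun x => show ((1 : Q) : G) * x * ((1 : Q) : G)⁻¹ = x by simp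
            mul_smul := fun u v x => show ((u * v : Q) : G) * x * ((u * v : Q) : G)⁻¹ =
              (u : G) * ((v : G) * x * (v : G)⁻¹) * (u : G)⁻¹ by simp [mul_assoc] }
        have hk : (p : MonoidAlgebra (Residue M) G) = 0 := by
          rw [← map_natCast (algebraMap (Residue M) (MonoidAlgebra (Residue M) G)), CharP.cast_eq_zero, map_zero]
        rw [sum_eq_sum_fixedPoints (P := Q) hk hQ (fun x => if IsConj g x then b x * f else 0)]
        · refine Finset.sum_eq_zero fun x hx => if_neg fun hxg => hgL ?_
          obtain ⟨c, hc⟩ := isConj_iff.1 hxg.symm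
          rw [← hc]
          refine hL.conj_mem x (hcent (Subgroup.mem_centralizer_iff.2 fun u hu => ?_)) c
          exact eq_mul_of_mul_inv_eq ((Finset.mem_filter.1 hx).2 ⟨u, hu⟩)
        · intro u x
          show (if IsConj g ((u : G) * x * (u : G)⁻¹) then b ((u : G) * x * (u : G)⁻¹) * f else 0) = _
          have hiff : IsConj g ((u : G) * x * (u : G)⁻¹) ↔ IsConj g x :=
            ⟨fun hx => hx.trans (isConj_iff.2 ⟨(u : G)⁻¹, by group⟩),
              fun hx => hx.trans (isConj_iff.2 ⟨(u : G), rfl⟩)⟩
          rw [hconst u x]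
          exact if_congr hiff rfl rfl
      rw [hzero, ← map_natCast (algebraMap (Residue M) (MonoidAlgebra (Residue M) G)), ← Algebra.smul_def] at hsum
      exact (smul_eq_zero.1 hsum).resolve_left fun h => hNp ((CharP.cast_eq_zero_iff _ p _).1 h)
  obtain ⟨z, hzN, hz⟩ := key
  -- every character over the invariant character sees the class as `z`
  suffices H : ∀ φ : IrrCharacter G, (∀ n ∈ N, (φ : G → ℂ) n / (φ : G → ℂ) 1 = E.f n / E.f 1) →
      omegaBar M φ (classSumR M g) = omegaBar M φ z by
    rw [H χ hχ, H χ' hχ', omegaBar_apply, omegaBar_apply]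
    congr 1
    refine Subtype.ext ?_
    rw [coe_omegaR, coe_omegaR, omega_eq_sum, omega_eq_sum]
    refine Finset.sum_congr rfl fun x _ => ?_
    by_cases hx : x ∈ N
    · rw [hχ x hx, hχ' x hx]
    · simp [hzN x hx]
  intro φ hφ
  have he : omegaBar M φ e = 1 := by
    rw [omegaBar_apply, show omegaR M φ e = 1 from Subtype.ext ?_, map_one]
    rw [coe_omegaR, omega_eq_sum, OneMemClass.coe_one]
    have hcard : (Nat.card N : ℂ) ≠ 0 := Nat.cast_ne_zero.2 Nat.card_pos.ne'
    have h1 := E.conv 1 (one_mem L) 1 (one_mem L)
    simp only [one_mul, mul_one] at h1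
    rw [div_mul_cancel₀ _ E.ne] at h1
    calc _ = (Nat.card N : ℂ)⁻¹ * ∑ x : G, if x ∈ N then E.f x * E.f x⁻¹ else 0 := by
          rw [Finset.mul_sum]
          refine Finset.sum_congr rfl fun x _ => ?_
          simp only [coeff_mapRingHom, Subring.coe_subtype, e, β, coe_coeff_beta, inv_one, one_mul]
          split_ifs with hx
          · rw [hφ x hx]
            have := E.ne
            field_simp
          · simp
      _ = 1 := by rw [h1, inv_mul_cancel₀ hcard]
  set B := blockOf M (φ : G → ℂ)
  have hB : IsPBlock M B := isPBlock_blockOf φ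
  let w : MonoidAlgebra (Residue M) G :=
    toF M G ((blockIdem M hB * e : RCenter M G) : MonoidAlgebra (localRing M) G)
  have hw : w ≠ 0 := fun h => by
    have h2 := omegaBar_congr φ (z := blockIdem M hB * e) (w := 0)
      (by rw [ZeroMemClass.coe_zero, map_zero]; exact h)
    rw [map_mul, map_zero, omegaBar_blockIdem, if_pos (mem_blockOf_self φ), he, mul_one] at h2
    exact one_ne_zero h2
  have hβe : ∀ m ∈ L, toF M G (β m) * toF M G (β 1) = toF M G (β m) := fun m hm => by
    rw [← map_mul, beta_mul M hM hNp E hNL hm (one_mem L), mul_one]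
  have hee : toF M G (β 1) * toF M G (β 1) = toF M G (β 1) := hβe 1 (one_mem L)
  have h1w : toF M G (β ((1 : Q) : G)) * w = w := by
    rw [OneMemClass.coe_one]
    simp only [w, MulMemClass.coe_mul, map_mul]
    rw [← mul_assoc, ← map_mul, Subalgebra.mem_center_iff.1 (blockIdem M hB).2, map_mul,
      mul_assoc]
    exact congrArg (_ * ·) hee
  haveI : CharP (MonoidAlgebra (Residue M) G) p :=
    charP_of_injective_algebraMap (FaithfulSMul.algebraMap_injective (Residue M) _) p
  obtain ⟨r, hr0, hr⟩ := exists_fixed_multiple hQ (fun u : Q => toF M G (β (u : G)))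
    (fun u v => by
      show toF M G (β ((u : G) * v)) = _
      rw [← map_mul, beta_mul M hM hNp E hNL (hQL u.2) (hQL v.2)]) hw h1w
  set f := r * w
  have hfL : ∀ l ∈ L, toF M G (β l) * f = f := by
    intro l hl
    obtain ⟨u, hu, hul⟩ := hcov l hl
    have : β l = β u := by
      have h := beta_coset M hM hNp E u hul
      rw [mul_inv_cancel_left] at h
      exact h
    rw [this]
    exact hr ⟨u, hu⟩
  obtain ⟨a, ha⟩ := IsLocalRing.residue_surjective (omegaBar M φ (classSumR M g - z))
  let d : RCenter M G := (classSumR M g - z - algebraMap _ _ a) * blockIdem M hB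
  have hd : IsNilpotent (toF M G (d : MonoidAlgebra (localRing M) G)) :=
    isNilpotent_of_omegaBar_eq_zero fun ψ => by
      rw [map_mul, omegaBar_blockIdem]
      by_cases hψ : ψ ∈ B
      · rw [map_sub, omegaBar_algebraMap, ← omegaBar_eq_of_sameBlock
          (sameBlock_of_mem hB (mem_blockOf_self φ) hψ), ha, sub_self, zero_mul]
      · rw [if_neg hψ, mul_zero]
  obtain ⟨k, hk⟩ := hd
  have hBf : toF M G (blockIdem M hB : MonoidAlgebra (localRing M) G) * f = f := by
    have hc := Subalgebra.mem_center_iff.1 (map_mem_center (residue M) (blockIdem M hB).2)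
    show _ * (r * w) = r * w
    rw [← mul_assoc, ← hc r, mul_assoc]
    congr 1
    simp only [w]
    rw [← map_mul, ← MulMemClass.coe_mul, ← mul_assoc, blockIdem_mul_self]
  have hdf : toF M G (d : MonoidAlgebra (localRing M) G) * f =
      (-residue M a) • f := by
    simp only [d, MulMemClass.coe_mul, map_mul, mul_assoc, hBf, AddSubgroupClass.coe_sub, map_sub,
      sub_mul, hz f hfL, sub_self, zero_sub, neg_smul, Algebra.smul_def]
    congr 2
    ext y
    simp [MonoidAlgebra.coe_algebraMap, coeff_single, Finsupp.single_apply,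
      apply_ite (residue M)]
  have hpow : ∀ j, toF M G (d : MonoidAlgebra (localRing M) G) ^ j * f = (-residue M a) ^ j • f := by
    intro j
    induction j with
    | zero => simp
    | succ j ih => rw [pow_succ, mul_assoc, hdf, mul_smul_comm, ih, smul_smul, pow_succ']
  have h0 := hpow k
  rw [hk, zero_mul] at h0
  have : residue M a = 0 :=
    neg_eq_zero.1 (eq_zero_of_pow_eq_zero ((smul_eq_zero.1 h0.symm).resolve_right hr0))
  rw [this] at ha
  rw [map_sub] at ha
  exact sub_eq_zero.1 ha.symm

end Cfsg.Agent.Lib.InvariantCore
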