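import Mathlib
import Cfsg.Agent.Lib.InvariantCore.Extension
import Cfsg.Agent.Lib.InvariantCore.Unit
import Cfsg.Agent.Lib.Blocks.Covering
import Cfsg.Agent.Lib.Blocks.DefectCard
import Cfsg.Agent.Lib.Blocks.DefectProps
import Cfsg.Agent.Lib.Clifford.Restriction
import Cfsg.Agent.Lib.Chars.Induced

/-!
# The block over an invariant character of a normal p'-subgroup
-/

set_option autoImplicit false

namespace Cfsg.Agent.Lib.InvariantCore

open Cfsg Cfsg.Agent.Lib Cfsg.Agent.Lib.Blocks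

universe u

variable {G : Type u} [Group G] [Fintype G] {p : ℕ} [Fact p.Prime] {M : Ideal AlgInt} [M.IsPrime]

omit [Fintype G] in
theorem exists_relIndex_sup (N : Subgroup G) [N.Normal] {R : Subgroup G} [Finite G] (hR : IsPGroup p R) :
    ∃ a, N.relIndex (R ⊔ N) = p ^ a := by
  obtain ⟨a, ha⟩ := IsPGroup.iff_card.1 hR
  have hdiv : N.relIndex (R ⊔ N) ∣ p ^ a := by
    rw [← ha, Subgroup.relIndex_sup_right]
    exact Subgroup.relIndex_dvd_card _ _
  obtain ⟨b, -, hb⟩ := (Nat.dvd_prime_pow (Fact.out : p.Prime)).1 hdiv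
  exact ⟨b, hb⟩

/-- The invariant extension, together with its normalised values below the characters over θ. -/
theorem exists_coreExt (N L : Subgroup G) [hN : N.Normal] [hLn : L.Normal] [Fintype N]
    [DecidablePred (· ∈ N)] (hNp : ¬ p ∣ Nat.card N) (hNL : N ≤ L) (Q : Subgroup G) (hQ : IsPGroup p Q)
    (hQL : Q ≤ L) (hcov : ∀ l ∈ L, ∃ u ∈ Q, u⁻¹ * l ∈ N) (θ : IrrCharacter N)
    (hinv : ∀ (g : G) (n : N),
      (θ : N → ℂ) ⟨g * n * g⁻¹, hN.conj_mem n n.2 g⟩ = (θ : N → ℂ) n) :
    ∃ E : CoreExt N L, (∀ n : N, E.f (n : G) = (θ : N → ℂ) n) ∧ ∀ χ : IrrCharacter G,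
      classInner (fun n : N => (χ : G → ℂ) n) (θ : N → ℂ) ≠ 0 →
      ∀ n ∈ N, (χ : G → ℂ) n / (χ : G → ℂ) 1 = E.f n / E.f 1 := by
  classical
  have hLsup : L = Q ⊔ N := by
    refine le_antisymm (fun l hl => ?_) (sup_le hQL hNL)
    obtain ⟨u, hu, hul⟩ := hcov l hl
    simpa using mul_mem (Subgroup.mem_sup_left hu : u ∈ Q ⊔ N) (Subgroup.mem_sup_right hul)
  have hindex : ∀ R : Subgroup G, IsPGroup p R → ∃ a, N.relIndex (R ⊔ N) = p ^ a :=
    fun R hR => exists_relIndex_sup N hR
  -- the invariant extension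
  obtain ⟨η, hη, hηinv⟩ := InvariantCore.exists_canonical_extension N L hNL hNp
    (hLsup ▸ hindex Q hQ) θ hinv
  let f : G → ℂ := fun x => if hx : x ∈ L then (η : L → ℂ) ⟨x, hx⟩ else 0
  have hfmem : ∀ x : L, f (x : G) = (η : L → ℂ) x := fun x => dif_pos x.2
  let K : Subgroup L := N.subgroupOf L
  have hKirr : IsIrrCharacter K (fun k : K => (η : L → ℂ) k) := by
    have e : (fun k : K => (η : L → ℂ) k) =
        fun k => (θ : N → ℂ) (Subgroup.subgroupOfEquivOfLe hNL k) := funext fun k =>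
      (hη (Subgroup.subgroupOfEquivOfLe hNL k)).symm ▸ rfl
    rw [e]
    exact Chars.isIrrCharacter_comp_mulEquiv _ θ.2
  let E : InvariantCore.CoreExt N L :=
    { f := f
      conj := fun g x => by
        by_cases hx : x ∈ L
        · have hx' : g * x * g⁻¹ ∈ L := hLn.conj_mem x hx g
          simp only [f, dif_pos hx, dif_pos hx']
          exact hηinv g (fun s hs => hLn.conj_mem s hs g) ⟨x, hx⟩
        · have hx' : ¬ g * x * g⁻¹ ∈ L := fun h => hx (by
            simpa [mul_assoc] using hLn.conj_mem _ h g⁻¹)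
          simp only [f, dif_neg hx, dif_neg hx']
      int := fun x => by
        by_cases hx : x ∈ L
        · simp only [f, dif_pos hx]
          exact Chars.irr_isIntegral η _
        · simp only [f, dif_neg hx]
          exact isIntegral_zero
      ne := by
        rw [show (1 : G) = ((1 : L) : G) from rfl, hfmem]
        exact Chars.irr_apply_one_ne_zero η
      conv := fun a ha b hb => by
        have h := InvariantCore.sum_restrict_mul η K hKirr ⟨a, ha⟩ ⟨b, hb⟩
        rw [show (1 : G) = ((1 : L) : G) from rfl, hfmem,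
          show f (a * b) = (η : L → ℂ) (⟨a, ha⟩ * ⟨b, hb⟩) from hfmem (⟨a, ha⟩ * ⟨b, hb⟩),
          ← Nat.card_congr (Subgroup.subgroupOfEquivOfLe hNL).toEquiv, ← h, ← Finset.sum_filter]
        refine Finset.sum_bij' (fun x hx => (⟨⟨x, hNL (Finset.mem_filter.1 hx).2⟩,
          (Finset.mem_filter.1 hx).2⟩ : K)) (fun k _ => ((k : L) : G))
          (fun _ _ => Finset.mem_univ _)
          (fun k _ => Finset.mem_filter.2 ⟨Finset.mem_univ _, k.2⟩) (fun _ _ => rfl)
          (fun _ _ => rfl) (fun x hx => ?_)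
        have hxL : x ∈ L := hNL (Finset.mem_filter.1 hx).2
        exact congrArg₂ (· * ·) (hfmem (⟨a, ha⟩ * ⟨x, hxL⟩))
          (hfmem ((⟨x, hxL⟩ : L)⁻¹ * ⟨b, hb⟩)) }
  have hfN : ∀ n : N, f (n : G) = (θ : N → ℂ) n := fun n =>
    (hfmem (Subgroup.inclusion hNL n)).trans (hη n)
  have hover : ∀ χ : IrrCharacter G,
      classInner (fun n : N => (χ : G → ℂ) n) (θ : N → ℂ) ≠ 0 →
      ∀ n ∈ N, (χ : G → ℂ) n / (χ : G → ℂ) 1 = f n / f 1 := by
    intro χ hχ n hn
    have hinv' : ∀ g : G, Clifford.conjFun g (θ : N → ℂ) = (θ : N → ℂ) := fun g =>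
      funext fun m => (congrArg (θ : N → ℂ) (Subtype.ext (by simp))).trans (hinv g m)
    have h := Clifford.resFun_eq_smul_of_invariant χ.2 θ.2 (N := N) hχ hinv'
    have hn' := congrFun h ⟨n, hn⟩
    have h1 := congrFun h 1
    simp only [Clifford.resFun, OneMemClass.coe_one, Pi.smul_apply, smul_eq_mul] at hn' h1
    rw [hn', h1, show f n = (θ : N → ℂ) ⟨n, hn⟩ from hfN ⟨n, hn⟩,
      show f 1 = (θ : N → ℂ) 1 from hfN 1]
    exact mul_div_mul_left _ _ hχ
  exact ⟨E, hfN, hover⟩

/-- Two characters over the same invariant character lie in one block. -/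
theorem sameBlock_over (hM : IsPModular p M) (N L : Subgroup G) [hN : N.Normal] [hLn : L.Normal]
    [Fintype N] (hNp : ¬ p ∣ Nat.card N) (hNL : N ≤ L) (Q : Subgroup G) (hQ : IsPGroup p Q)
    (hQL : Q ≤ L) (hcov : ∀ l ∈ L, ∃ u ∈ Q, u⁻¹ * l ∈ N)
    (hcent : Subgroup.centralizer (Q : Set G) ≤ L) (θ : IrrCharacter N)
    (hinv : ∀ (g : G) (n : N),
      (θ : N → ℂ) ⟨g * n * g⁻¹, hN.conj_mem n n.2 g⟩ = (θ : N → ℂ) n)
    (χ χ' : IrrCharacter G) (h : classInner (fun n : N => (χ : G → ℂ) n) (θ : N → ℂ) ≠ 0)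
    (h' : classInner (fun n : N => (χ' : G → ℂ) n) (θ : N → ℂ) ≠ 0) :
    SameBlock M (χ : G → ℂ) (χ' : G → ℂ) := by
  classical
  obtain ⟨E, -, hover⟩ := exists_coreExt N L hNp hNL Q hQ hQL hcov θ hinv
  exact sameBlock_of_coreExt hM hNp hNL E Q hQ hQL hcov hcent χ χ' (hover χ h) (hover χ' h')

/-- An invariant character of a normal p'-subgroup lies under a character of degree prime to p. -/
theorem exists_not_dvd_over (N : Subgroup G) [hN : N.Normal] [Fintype N]
    (hNp : ¬ p ∣ Nat.card N) (θ : IrrCharacter N)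
    (hinv : ∀ (g : G) (n : N),
      (θ : N → ℂ) ⟨g * n * g⁻¹, hN.conj_mem n n.2 g⟩ = (θ : N → ℂ) n) :
    ∃ χ : IrrCharacter G, classInner (fun n : N => (χ : G → ℂ) n) (θ : N → ℂ) ≠ 0 ∧
      ¬ p ∣ charDegree (χ : G → ℂ) := by
  classical
  have hp : p.Prime := Fact.out
  have hindex : ∀ R : Subgroup G, IsPGroup p R → ∃ a, N.relIndex (R ⊔ N) = p ^ a :=
    fun R hR => exists_relIndex_sup N hR
  obtain ⟨P⟩ : Nonempty (Sylow p G) := inferInstance
  let S : Subgroup G := (P : Subgroup G) ⊔ N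
  have hNS : N ≤ S := le_sup_right
  obtain ⟨ηS, hηS, -⟩ := InvariantCore.exists_canonical_extension N S hNS hNp
    (hindex _ P.isPGroup') θ hinv
  obtain ⟨d, hd0, hd, hddvd⟩ := Chars.irr_degree_dvd_card θ
  obtain ⟨n, hn⟩ := Chars.isCharacter_exists_nat_decomp
    (Chars.isCharacter_indFun S (Chars.irr_isCharacter ηS))
  choose D hD0 hD using fun φ : IrrCharacter G => Chars.isIrrCharacter_exists_degree_pos φ.2
  obtain ⟨φ, hφp, hφn⟩ : ∃ φ, ¬ p ∣ D φ ∧ n φ ≠ 0 := by
    by_contra! h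
    have h1 := congrFun hn 1
    have hone : (ηS : S → ℂ) 1 = (d : ℂ) := by
      rw [← hd, ← hηS 1, map_one]
    rw [Chars.indFun_one_eq, hone] at h1
    simp only [Finset.sum_apply, Pi.smul_apply, smul_eq_mul, hD] at h1
    have h2 : S.index * d = ∑ φ, n φ * D φ := by exact_mod_cast h1
    have h3 : p ∣ S.index * d := h2 ▸ Finset.dvd_sum fun φ _ => by
      by_cases hd' : p ∣ D φ
      · exact dvd_mul_of_dvd_right hd' _
      · rw [h φ hd', zero_mul]; exact dvd_zero p
    rcases hp.dvd_mul.1 h3 with h3 | h3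
    · exact P.not_dvd_index (h3.trans (Subgroup.index_dvd_of_le le_sup_left))
    · exact hNp (h3.trans hddvd)
  refine ⟨φ, ?_, ?_⟩
  · obtain ⟨m, hm⟩ := Chars.isCharacter_exists_nat_decomp
      (Chars.isCharacter_restrict S (Chars.irr_isCharacter φ))
    have hmS : m ηS ≠ 0 := by
      intro h0
      have h1 := Chars.classInner_indFun_left S (ηS : S → ℂ) _ (Chars.irr_isClassFunction φ)
      rw [hn, Chars.classInner_sum_smul_irr, ← Chars.conj_classInner, hm,
        Chars.classInner_sum_smul_irr, h0, Nat.cast_zero, map_zero, Nat.cast_eq_zero] at h1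
      exact hφn h1
    have hresN : (fun k : N => (φ : G → ℂ) k) =
        ∑ δ : IrrCharacter S, (m δ : ℂ) • fun k : N => (δ : S → ℂ) (Subgroup.inclusion hNS k) := by
      funext k
      have := congrFun hm (Subgroup.inclusion hNS k)
      simpa [Finset.sum_apply] using this
    have hnat : ∀ δ : IrrCharacter S, ∃ j : ℕ,
        classInner (fun k : N => (δ : S → ℂ) (Subgroup.inclusion hNS k)) (θ : N → ℂ) = j :=
      fun δ => Chars.isCharacter_classInner_nat
        (Chars.isCharacter_comp _ (Chars.irr_isCharacter δ)) (Chars.irr_isCharacter θ)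
    choose j hj using hnat
    have hj1 : j ηS = 1 := by
      have h := hj ηS
      rw [show (fun k : N => (ηS : S → ℂ) (Subgroup.inclusion hNS k)) = (θ : N → ℂ) from
        funext hηS, Chars.classInner_irr_self] at h
      exact_mod_cast h.symm
    rw [hresN, Chars.classInner_sum_left]
    simp only [Chars.classInner_smul_left, hj]
    rw [← Finset.sum_congr rfl fun δ _ => Nat.cast_mul (m δ) (j δ), ← Nat.cast_sum,
      Nat.cast_ne_zero]
    intro h0
    have := (Finset.sum_eq_zero_iff.1 h0) ηS (Finset.mem_univ _)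
    rw [hj1, mul_one] at this
    exact hmS this
  · rw [show charDegree (φ : G → ℂ) = D φ by simp [charDegree, hD]]
    exact hφp

/-- A block with a character of degree prime to p has exactly the Sylow subgroups as defect
groups. -/
theorem defectGroups_eq_sylow (hM : IsPModular p M) {B : Set (IrrCharacter G)} (hB : IsPBlock M B)
    {χ : IrrCharacter G} (hχ : χ ∈ B) (hχp : ¬ p ∣ charDegree (χ : G → ℂ)) :
    (∀ P : Sylow p G, IsDefectGroup p M B (P : Subgroup G)) ∧
      ∀ D : Subgroup G, IsDefectGroup p M B D → ∃ P : Sylow p G, D = (P : Subgroup G) := by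
  classical
  have hdef : blockDefect p B = (Nat.card G).factorization p := by
    have h0 : sInf ((fun χ : IrrCharacter G => (charDegree (χ : G → ℂ)).factorization p) '' B) = 0 :=
      Nat.le_zero.1 (Nat.sInf_le ⟨χ, hχ, Nat.factorization_eq_zero_of_not_dvd hχp⟩)
    rw [blockDefect, h0, Nat.sub_zero]
  have hsyl : ∀ D : Subgroup G, IsDefectGroup p M B D → ∃ P : Sylow p G, D = (P : Subgroup G) := by
    intro D hD
    have hc := card_defectGroup hM hB hD
    rw [hdef] at hc
    exact ⟨Sylow.ofCard D hc, rfl⟩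
  refine ⟨fun P => ?_, hsyl⟩
  obtain ⟨D, hD⟩ := exists_isDefectGroup (p := p) hB
  obtain ⟨P', rfl⟩ := hsyl D hD
  obtain ⟨g, hg⟩ := MulAction.exists_smul_eq G P' P
  rw [← hg]
  exact isDefectGroup_conj hD g

end Cfsg.Agent.Lib.InvariantCore
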